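import Cfsg.Agent.H721.FR.Base

/-!
# S4970, FR-UNI, part 1: the Cayley transform of a unipotent isometry
-/

set_option autoImplicit false

namespace Cfsg.Agent.H396.Uni

open Module

section cayley

variable {F V : Type*} [Field F] [AddCommGroup V] [Module F V]

/-- the Cayley transform -/
theorem exists_cayley (h2 : (2 : F) ≠ 0) {C : End F V} (hu : IsNilpotent (C - 1)) :
    ∃ N D : End F V, (C + 1) * D = 1 ∧ D * (C + 1) = 1 ∧ N = (C - 1) * D ∧ IsNilpotent N ∧ Commute C N ∧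
      C * (1 - N) = 1 + N := by
  have hu2 : IsUnit (C + 1) := by
    have h1 : C + 1 = (C - 1) + (2 : F) • (1 : End F V) := by
      rw [two_smul]; abel
    rw [h1]
    have h3 : IsUnit ((2 : F) • (1 : End F V)) := by
      refine ⟨⟨(2 : F) • 1, (2 : F)⁻¹ • 1, ?_, ?_⟩, rfl⟩
      · rw [smul_mul_smul_comm, mul_inv_cancel₀ h2, one_smul, one_mul]
      · rw [smul_mul_smul_comm, inv_mul_cancel₀ h2, one_smul, one_mul]
    have h4 : Commute (C - 1) ((2 : F) • (1 : End F V)) := (Commute.one_right _).smul_right _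
    exact hu.isUnit_add_right_of_commute h3 h4
  obtain ⟨u, hu3⟩ := hu2
  have hD1 : (C + 1) * (↑u⁻¹ : End F V) = 1 := by rw [← hu3]; exact u.mul_inv
  have hD2 : (↑u⁻¹ : End F V) * (C + 1) = 1 := by rw [← hu3]; exact u.inv_mul
  have hcomm : Commute C (↑u⁻¹ : End F V) := by
    have h1 : Commute (C + 1) (↑u⁻¹ : End F V) := by
      show _ = _
      rw [hD1, hD2]
    have h2 : Commute ((C + 1) - 1) (↑u⁻¹ : End F V) := h1.sub_left (Commute.one_left _)
    rwa [add_sub_cancel_right] at h2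
  refine ⟨(C - 1) * ↑u⁻¹, ↑u⁻¹, hD1, hD2, rfl, ?_, ?_, ?_⟩
  · have h1 : Commute (C - 1) (↑u⁻¹ : End F V) := hcomm.sub_left (Commute.one_left _)
    exact h1.isNilpotent_mul_right hu
  · exact ((Commute.refl C).sub_right (Commute.one_right _)).mul_right hcomm
  · have e1 : (1 : End F V) = (C + 1) * ↑u⁻¹ := hD1.symm
    have e2 : (1 : End F V) - (C - 1) * ↑u⁻¹ = (2 : F) • (↑u⁻¹ : End F V) := by
      conv_lhs => rw [e1]
      rw [← sub_mul, two_smul]
      have : C + 1 - (C - (C + 1) * ↑u⁻¹) = 1 + 1 := by rw [hD1]; abel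
      rw [this, add_mul, one_mul]
    have e3 : (1 : End F V) + (C - 1) * ↑u⁻¹ = (2 : F) • (C * (↑u⁻¹ : End F V)) := by
      conv_lhs => rw [e1]
      rw [← add_mul, two_smul]
      have : C + 1 + (C - (C + 1) * ↑u⁻¹) = C + C := by rw [hD1]; abel
      rw [this, add_mul]
    rw [e2, e3, mul_smul_comm]

/-- what we need of the Cayley transform `N` of `c` -/
structure Cay (B : V →ₗ[F] V →ₗ[F] F) (c : V ≃ₗ[F] V) (N : V →ₗ[F] V) : Prop where
  nil : IsNilpotent (N : End F V)
  skew : ∀ x y, B (N x) y = - B x (N y)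
  cc : ∀ x, c (x - N x) = x + N x
  comm : ∀ x, c (N x) = N (c x)
  plus : ∀ g : V ≃ₗ[F] V, g * c * g⁻¹ = c → ∀ x, g (N x) = N (g x)
  minus : ∀ g : V ≃ₗ[F] V, g * c * g⁻¹ = c⁻¹ → ∀ x, g (N x) = - N (g x)
  ne : c ≠ 1 → N ≠ 0

theorem exists_cay (h2 : (2 : F) ≠ 0) {B : V →ₗ[F] V →ₗ[F] F} {c : V ≃ₗ[F] V}
    (hc : ∀ x y, B (c x) (c y) = B x y) (hu : IsNilpotent (((c : V →ₗ[F] V) : End F V) - 1)) :
    ∃ N : V →ₗ[F] V, Cay B c N := by
  obtain ⟨N, D, hD1, hD2, hN, hn, hcm, hc1⟩ := exists_cayley h2 hu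
  have hsur : ∀ x, ∃ u, x = c u + u := by
    intro x
    refine ⟨D x, ?_⟩
    have := LinearMap.congr_fun hD1 x
    exact this.symm
  have hNu : ∀ u, N (c u + u) = c u - u := by
    intro u
    have h1 : N * (((c : V →ₗ[F] V) : End F V) + 1) = ((c : V →ₗ[F] V) : End F V) - 1 := by
      rw [hN, mul_assoc, hD2, mul_one]
    exact LinearMap.congr_fun h1 u
  refine ⟨N, hn, ?_, ?_, ?_, ?_, ?_, ?_⟩
  · intro x y
    obtain ⟨u, rfl⟩ := hsur x
    obtain ⟨v, rfl⟩ := hsur y
    rw [hNu, hNu]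
    simp only [map_add, map_sub, LinearMap.add_apply, LinearMap.sub_apply, hc]
    ring
  · intro x
    exact LinearMap.congr_fun hc1 x
  · intro x
    exact LinearMap.congr_fun hcm x
  · intro g hg x
    have hg' : ∀ y, g (c y) = c (g y) := by
      intro y
      have h1 : g * c = c * g := by
        calc g * c = g * c * g⁻¹ * g := by group
          _ = c * g := by rw [hg]
      exact LinearEquiv.congr_fun h1 y
    obtain ⟨u, rfl⟩ := hsur x
    rw [hNu, map_sub, map_add, hg', hNu]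
  · intro g hg x
    have hg' : ∀ y, c (g (c y)) = g y := by
      intro y
      have h1 : c * (g * c) = g := by
        calc c * (g * c) = c * (g * c * g⁻¹) * g := by group
          _ = g := by rw [hg]; group
      exact LinearEquiv.congr_fun h1 y
    obtain ⟨u, rfl⟩ := hsur x
    rw [hNu, map_sub, map_add]
    have h1 : g (c u) + g u = c (g (c u)) + g (c u) := by rw [hg']; abel
    rw [h1, hNu, hg']
    abel
  · intro hne h0
    apply hne
    ext x
    have h1 := LinearMap.congr_fun hc1 x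
    rw [h0] at h1
    simpa using h1

end cayley

end Cfsg.Agent.H396.Uni
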