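import Cfsg.Agent.H396.Uni.Top

/-!
# S4970, FR-UNI, part 3: improving the complement
-/

set_option autoImplicit false

namespace Cfsg.Agent.H396.Uni

open Module Cfsg.Agent.H721.FR Cfsg.Agent.H721.SR

section

variable {F V : Type*} [Field F] [AddCommGroup V] [Module F V]

/-- `V` is free over `F[N]/N^k`, generated by `M` -/
structure Pre (B : V →ₗ[F] V →ₗ[F] F) (N : V →ₗ[F] V) (k : ℕ) (M : Submodule F V) : Prop where
  hk : 2 ≤ k
  nil : N ^ k = 0
  skew : ∀ x y, B (N x) y = - B x (N y)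
  gen : M ⊔ LinearMap.range N = ⊤
  inj : ∀ x ∈ M, (N ^ (k - 1)) x = 0 → x = 0

variable {B : V →ₗ[F] V →ₗ[F] F} {N : V →ₗ[F] V} {k : ℕ} {M : Submodule F V} {ε : F}

theorem pow_zero_of_le (hn : N ^ k = 0) {i : ℕ} (hi : k ≤ i) (x : V) : (N ^ i) x = 0 := by
  have h : N ^ i = 0 := pow_eq_zero_of_le hi hn
  rw [h]; rfl

theorem powN (i j : ℕ) (x : V) : (N ^ i) ((N ^ j) x) = (N ^ (i + j)) x := by
  rw [pow_add, Module.End.mul_apply]

theorem Pre.exists_add (h : Pre B N k M) (v : V) : ∃ x ∈ M, ∃ w, v = x + N w := by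
  have hv : v ∈ M ⊔ LinearMap.range N := by rw [h.gen]; trivial
  obtain ⟨x, hx, _, ⟨w, rfl⟩, rfl⟩ := Submodule.mem_sup.1 hv
  exact ⟨x, hx, w, rfl⟩

theorem Pre.nd_left (h : Pre B N k M) (hnd : ∀ x, (∀ y, B x y = 0) → x = 0) {x : V} (hx : x ∈ M)
    (h0 : ∀ y ∈ M, B x ((N ^ (k - 1)) y) = 0) : x = 0 := by
  apply h.inj x hx
  apply hnd
  intro v
  obtain ⟨y, hy, w, rfl⟩ := h.exists_add v
  have hk := h.hk
  have h1 : (N ^ (k - 1)) (N w) = 0 := by
    have h2 := powN (N := N) (k - 1) 1 w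
    rw [pow_one] at h2
    rw [h2]
    exact pow_zero_of_le h.nil (by omega) w
  rw [skew_pow h.skew, map_add, h1, add_zero, h0 y hy, mul_zero]

theorem Pre.nd_right (h : Pre B N k M) (hs : ∀ x y, B x y = ε * B y x)
    (hnd : ∀ x, (∀ y, B x y = 0) → x = 0) {y : V} (hy : y ∈ M)
    (h0 : ∀ x ∈ M, B x ((N ^ (k - 1)) y) = 0) : y = 0 := by
  apply h.nd_left hnd hy
  intro x hx
  rw [hs, skew_pow h.skew, h0 x hx, mul_zero, mul_zero]

/-- the linear algebra: solve `B x (N^(k-1) (A y)) = c * B x (N^j y)` -/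
theorem Pre.exists_A [FiniteDimensional F V] (h : Pre B N k M) (hs : ∀ x y, B x y = ε * B y x)
    (hnd : ∀ x, (∀ y, B x y = 0) → x = 0) (j : ℕ) (c : F) :
    ∃ A : M →ₗ[F] M, ∀ x ∈ M, ∀ y : M, B x ((N ^ (k - 1)) (A y : V)) = c * B x ((N ^ j) (y : V)) := by
  -- `y ↦ (x ↦ B x (N^i y))`
  let Φ : ℕ → (M →ₗ[F] Dual F M) := fun i =>
    { toFun := fun y =>
        { toFun := fun x => B (x : V) ((N ^ i) (y : V))
          map_add' := fun a b => by simp
          map_smul' := fun a b => by simp }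
      map_add' := fun a b => by ext x; simp
      map_smul' := fun a b => by ext x; simp }
  have hΦ : ∀ i (y x : M), Φ i y x = B (x : V) ((N ^ i) (y : V)) := fun _ _ _ => rfl
  have hinj : Function.Injective (Φ (k - 1)) := by
    rw [← LinearMap.ker_eq_bot, LinearMap.ker_eq_bot']
    intro y hy
    apply Subtype.ext
    refine h.nd_right hs hnd y.2 fun x hx => ?_
    have := LinearMap.congr_fun hy ⟨x, hx⟩
    exact this
  have hsur : Function.Surjective (Φ (k - 1)) :=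
    (LinearMap.injective_iff_surjective_of_finrank_eq_finrank (Subspace.dual_finrank_eq (K := F) (V := M)).symm).1 hinj
  let e : M ≃ₗ[F] Dual F M := LinearEquiv.ofBijective (Φ (k - 1)) ⟨hinj, hsur⟩
  refine ⟨e.symm.toLinearMap ∘ₗ (c • Φ j), fun x hx y => ?_⟩
  have h1 : Φ (k - 1) (e.symm ((c • Φ j) y)) = (c • Φ j) y := e.apply_symm_apply _
  have h2 := LinearMap.congr_fun h1 ⟨x, hx⟩
  exact h2

theorem g_pow {g : V →ₗ[F] V} {s : F} (hg : ∀ x, g (N x) = s • N (g x)) (i : ℕ) (x : V) :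
    g ((N ^ i) x) = s ^ i • (N ^ i) (g x) := by
  induction i with
  | zero => simp
  | succ i ih =>
    rw [pow_succ', Module.End.mul_apply, Module.End.mul_apply, hg, ih, map_smul, smul_smul, pow_succ']

/-- **the improvement step** -/
theorem Pre.step [FiniteDimensional F V] (h2 : (2 : F) ≠ 0) (h : Pre B N k M) (hε : ε * ε = 1)
    (hs : ∀ x y, B x y = ε * B y x)
    (hnd : ∀ x, (∀ y, B x y = 0) → x = 0) {P : Subgroup (V ≃ₗ[F] V)}
    (hPI : ∀ g ∈ P, ∀ x y, B (g x) (g y) = B x y) (hM : ∀ g ∈ P, ∀ x ∈ M, g x ∈ M)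
    (hact : ∀ g ∈ P, ∃ s : F, s * s = 1 ∧ ∀ x, g (N x) = s • N (g x)) {j : ℕ} (hj : j + 2 ≤ k)
    (ho : ∀ x ∈ M, ∀ y ∈ M, ∀ i, j < i → i ≠ k - 1 → B x ((N ^ i) y) = 0) :
    ∃ M' : Submodule F V, Pre B N k M' ∧ (∀ g ∈ P, ∀ x ∈ M', g x ∈ M') ∧
      ∀ x ∈ M', ∀ y ∈ M', ∀ i, j ≤ i → i ≠ k - 1 → B x ((N ^ i) y) = 0 := by
  obtain ⟨A, hA⟩ := h.exists_A hs hnd j (-(2 : F)⁻¹)
  obtain ⟨e, he⟩ : ∃ e, k - 1 = j + e := ⟨k - 1 - j, by omega⟩
  have he1 : 1 ≤ e := by omega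
  let ψ : M →ₗ[F] V := M.subtype + (N ^ e) ∘ₗ M.subtype ∘ₗ A
  have hψ : ∀ x : M, ψ x = (x : V) + (N ^ e) (A x : V) := fun _ => rfl
  have hNe : ∀ y : V, (N ^ e) y = N ((N ^ (e - 1)) y) := by
    intro y
    have := powN (N := N) 1 (e - 1) y
    rw [pow_one] at this
    rw [this]
    congr 2
    omega
  have hsm : ∀ (s : F), s * s = 1 → ∀ i, s ^ i * s ^ i = 1 := by
    intro s hs i
    rw [← mul_pow, hs, one_pow]
  refine ⟨LinearMap.range ψ, ?_, ?_, ?_⟩
  · refine ⟨h.hk, h.nil, h.skew, ?_, ?_⟩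
    · rw [eq_top_iff, ← h.gen]
      refine sup_le ?_ le_sup_right
      intro x hx
      rw [Submodule.mem_sup]
      refine ⟨ψ ⟨x, hx⟩, ⟨_, rfl⟩, - (N ^ e) (A ⟨x, hx⟩ : V), ?_, ?_⟩
      · rw [hNe]
        exact Submodule.neg_mem _ ⟨_, rfl⟩
      · rw [hψ]; simp
    · rintro _ ⟨x, rfl⟩ h0
      have h0' : (N ^ (k - 1)) ((N ^ e) (A x : V)) = 0 := by
        rw [powN]
        exact pow_zero_of_le h.nil (by have := h.hk; omega) _
      rw [hψ, map_add, h0', add_zero] at h0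
      have h1 : x = 0 := Subtype.ext (h.inj _ x.2 h0)
      rw [h1, map_zero]
  · rintro g hg _ ⟨x, rfl⟩
    obtain ⟨s, hss, hgN⟩ := hact g hg
    have hgp := fun i y => g_pow (g := (g : V →ₗ[F] V)) hgN i y
    have hgx : g (x : V) ∈ M := hM g hg _ x.2
    have hginv : ∀ y ∈ M, g⁻¹ y ∈ M := hM _ (P.inv_mem hg)
    have hgi : ∀ y z, B y (g z) = B (g⁻¹ y) z := by
      intro y z
      have h1 := hPI g hg (g⁻¹ y) z
      have h1' : g (g⁻¹ y) = y := by
        show (g * g⁻¹) y = y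
        rw [mul_inv_cancel]
        rfl
      rw [← h1, h1']
    -- `A g = s^(j+k-1) g A`
    have hAg : (A ⟨g x, hgx⟩ : V) = s ^ (j + (k - 1)) • g (A x : V) := by
      have h1 : (A ⟨g x, hgx⟩ : V) - s ^ (j + (k - 1)) • g (A x : V) = 0 := by
        have hmem : (A ⟨g x, hgx⟩ : V) - s ^ (j + (k - 1)) • g (A x : V) ∈ M :=
          M.sub_mem (A ⟨g x, hgx⟩).2 (M.smul_mem _ (hM g hg _ (A x).2))
        refine h.nd_right hs hnd hmem fun y hy => ?_
        rw [map_sub, map_smul, map_sub, map_smul, hA y hy]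
        have e1 : (N ^ (k - 1)) (g (A x : V)) = s ^ (k - 1) • g ((N ^ (k - 1)) (A x : V)) := by
          have h3 := hgp (k - 1) (A x : V)
          have h3' : g ((N ^ (k - 1)) (A x : V)) = s ^ (k - 1) • (N ^ (k - 1)) (g (A x : V)) := h3
          rw [h3', smul_smul, hsm s hss, one_smul]
        have e2 : (N ^ j) (g (x : V)) = s ^ j • g ((N ^ j) (x : V)) := by
          have h3 := hgp j (x : V)
          have h3' : g ((N ^ j) (x : V)) = s ^ j • (N ^ j) (g (x : V)) := h3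
          rw [h3', smul_smul, hsm s hss, one_smul]
        have e3 : B y ((N ^ j) ((⟨g x, hgx⟩ : M) : V)) = s ^ j * B (g⁻¹ y) ((N ^ j) (x : V)) := by
          show B y ((N ^ j) (g (x : V))) = _
          rw [e2, map_smul, smul_eq_mul, hgi]
        rw [e3, e1, map_smul, hgi, hA _ (hginv y hy), smul_eq_mul, smul_eq_mul, pow_add]
        have h4 := hsm s hss (k - 1)
        linear_combination (s ^ j * 2⁻¹ * B (g⁻¹ y) ((N ^ j) (x : V))) * h4
      rwa [sub_eq_zero] at h1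
    refine ⟨⟨g x, hgx⟩, ?_⟩
    rw [hψ, hψ, map_add, hAg, map_smul]
    show g (x : V) + _ = g (x : V) + _
    congr 1
    have h3 : g ((N ^ e) (A x : V)) = s ^ e • (N ^ e) (g (A x : V)) := hgp e (A x : V)
    rw [h3, he]
    congr 1
    have h5 := hsm s hss j
    rw [pow_add, pow_add]
    linear_combination s ^ e * h5
  · rintro _ ⟨x, rfl⟩ _ ⟨y, rfl⟩ i hji hik
    rw [hψ, hψ, map_add (N ^ i), powN, map_add, map_add, LinearMap.add_apply, LinearMap.add_apply]
    rcases Nat.lt_or_ge j i with hlt | hge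
    · have h3 : ∀ z, (N ^ (i + e)) z = 0 := fun z => pow_zero_of_le h.nil (by have := h.hk; omega) z
      have h4 : B ((N ^ e) (A x : V)) ((N ^ i) (y : V)) = 0 := by
        rw [skew_pow h.skew, powN, add_comm e i, h3, map_zero, mul_zero]
      rw [ho x x.2 y y.2 i hlt hik, h3, map_zero, map_zero, h4]
      simp
    · have hij : i = j := by omega
      subst hij
      have h3 : B ((N ^ e) (A x : V)) ((N ^ (i + e)) (A y : V)) = 0 := by
        rw [skew_pow h.skew, powN, pow_zero_of_le h.nil (by have := h.hk; omega), map_zero, mul_zero]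
      have h4 : B ((N ^ e) (A x : V)) ((N ^ i) (y : V)) = (-1) ^ e * B (A x : V) ((N ^ (k - 1)) (y : V)) := by
        rw [skew_pow h.skew, powN, he, add_comm e i]
      have h5 : B (A x : V) ((N ^ (k - 1)) (y : V)) =
          ε * ((-1) ^ (k - 1) * (-(2 : F)⁻¹ * B (y : V) ((N ^ i) (x : V)))) := by
        rw [hs, skew_pow h.skew, hA y y.2]
      have h6 : B (y : V) ((N ^ i) (x : V)) = (-1) ^ i * (ε * B (x : V) ((N ^ i) (y : V))) := by
        have h7 : B ((N ^ i) (y : V)) (x : V) = (-1) ^ i * B (y : V) ((N ^ i) (x : V)) := skew_pow h.skew i _ _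
        have h8 : B (x : V) ((N ^ i) (y : V)) = ε * B ((N ^ i) (y : V)) (x : V) := hs _ _
        rw [h8, h7]
        have h9 := hsm (-1 : F) (by ring) i
        linear_combination (-(ε * ε) * B (y : V) ((N ^ i) (x : V))) * h9 - B (y : V) ((N ^ i) (x : V)) * hε
      have h7 : B (x : V) ((N ^ (i + e)) (A y : V)) = -(2 : F)⁻¹ * B (x : V) ((N ^ i) (y : V)) := by
        rw [← he]; exact hA x x.2 y
      rw [h3, h4, h5, h6, h7, he, pow_add]
      have h8 := hsm (-1 : F) (by ring) i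
      have h9 := hsm (-1 : F) (by ring) e
      have h10 : (-1 : F) ^ e * (ε * ((-1) ^ i * (-1) ^ e * (-(2 : F)⁻¹ * ((-1) ^ i * (ε * B (x : V) ((N ^ i) (y : V))))))) =
          -(2 : F)⁻¹ * B (x : V) ((N ^ i) (y : V)) := by
        calc _ = -(2 : F)⁻¹ * B (x : V) ((N ^ i) (y : V)) * (ε * ε) * ((-1 : F) ^ i * (-1) ^ i) * ((-1 : F) ^ e * (-1) ^ e) := by
              ring
          _ = _ := by rw [hε, h8, h9]; ring
      rw [h10]
      have h11 : (2 : F)⁻¹ * 2 = 1 := inv_mul_cancel₀ h2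
      linear_combination (-(B (x : V) ((N ^ i) (y : V)))) * h11

end

end Cfsg.Agent.H396.Uni
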